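import Cfsg.Agent.H868.KSL2
import Cfsg.Agent.H813.NonCyc
import Cfsg.Agent.H493.PGCount_m3
import Cfsg.Agent.S0242
import Cfsg.Agent.H413.E8.Facts_m3
import Cfsg.Agent.H992.E8X.Fix
import Cfsg.Agent.H129.FE.Fix
import Cfsg.Agent.S1054
import Cfsg.Agent.H92.TorExpE8_m3
import Cfsg.Agent.H967.FaChev
import Cfsg.Agent.S2125
import Cfsg.Agent.FastGrp
import Cfsg.Agent.Prune
set_option linter.all false
prune_inst 0x7f00000000000000000000000000000000000000000000000000000000000000000000000000000000000000000000000000000000000000000000000000000000000000000000000000000000000000003fffffffffffffffffffffffffffbeffbdffffffff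
open scoped Cfsg.Agent.FastGrp

-- part: H413/E8/NonCyc
section
/-!
# Noncyclic Sylow subgroups of `E₈(q)` and the primes of a normal subgroup (helper413, S3636)

* `exists_sylow` : the Sylow `s`-subgroups of `E₈(q)` are not cyclic, `s ≠ 2` dividing `q (q² - 1)`;
* `rel_of_noncyclic`, `ker_rel` : the primes `t ≠ s` dividing `|K|` are adjacent to `s` if `E₈(q)` is a subgroup of `G/K`.
-/

set_option autoImplicit false
set_option linter.unusedSectionVars false

namespace Cfsg.Agent.H413.E8.NonCyc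

open Subgroup Cfsg Cfsg.Lie
open Cfsg.Agent.H92.ExcSL2 Cfsg.Agent.H868.KSL2
open Cfsg.Agent.ChevalleyStructure Cfsg.Agent.ChevalleyStructure.Elts

universe u v

theorem card_SL2 {F : Type u} [Field F] [Finite F] : Nat.card (Matrix.SpecialLinearGroup (Fin 2) F) =
    Nat.card F * (Nat.card F ^ 2 - 1) := by
  have : Fintype F := Fintype.ofFinite F
  have h1 := Cfsg.Agent.S0242.result (F := F) rfl 2 (by norm_num)
  have hq : 2 ≤ Fintype.card F := Fintype.one_lt_card
  rw [Fin.prod_univ_two] at h1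
  have h3 : Fintype.card F ^ 2 - Fintype.card F ^ 1 = (Fintype.card F - 1) * Fintype.card F := by
    rw [Nat.sub_mul, one_mul, pow_one, pow_two]
  simp only [Fin.val_zero, Fin.val_one, pow_zero] at h1
  rw [h3] at h1
  have h4 : (Fintype.card F - 1) * Nat.card (Matrix.SpecialLinearGroup (Fin 2) F) =
      (Fintype.card F - 1) * (Fintype.card F * (Fintype.card F ^ 2 - 1)) := by rw [h1]; ring
  rw [Nat.card_eq_fintype_card (α := F)]
  exact Nat.eq_of_mul_eq_mul_left (by omega) h4

theorem dvd_of {s q : ℕ} (hq : 1 ≤ q) (h : s ∣ q ∨ s ∣ q - 1 ∨ s ∣ q + 1) : s ∣ q * (q ^ 2 - 1) := by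
  obtain ⟨m, rfl⟩ : ∃ m, q = m + 1 := ⟨_, (Nat.sub_add_cancel hq).symm⟩
  have e : (m + 1) ^ 2 - 1 = (m + 1 + 1) * (m + 1 - 1) := by
    have e : (m + 1) ^ 2 = (m + 1 + 1) * (m + 1 - 1) + 1 := by
      rw [Nat.add_sub_cancel]; ring
    rw [e, Nat.add_sub_cancel]
  rw [e]
  rcases h with h | h | h
  · exact h.mul_right _
  · exact (h.mul_left _).mul_left _
  · exact (h.mul_right _).mul_left _

theorem inl : InList chevE8 := by simp [InList]

theorem l0 : chevE8.simple 0 < chevE8.nroots := by decide +kernel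

theorem l1 : 239 < chevE8.nroots := by decide +kernel

theorem orth : Orth4 chevE8 (chevE8.simple 0) 239 = true := by decide +kernel

/-- subgroups of a cyclic group of the same order -/
theorem eq_of_card {G : Type*} [Group G] [Finite G] [IsCyclic G] {H K : Subgroup G} (h : Nat.card H = Nat.card K) :
    H = K := by
  have key : ∀ H : Subgroup G, (H : Set G) = {a | a ^ Nat.card H = 1} := by
    classical
    have := Fintype.ofFinite G
    intro H
    refine Set.eq_of_subset_of_ncard_le ?_ ?_ (Set.toFinite _)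
    · intro a ha
      have h1 : (⟨a, ha⟩ : H) ^ Nat.card H = 1 := pow_card_eq_one'
      exact congrArg Subtype.val h1
    · have h2 : (Finset.univ.filter fun a : G => a ^ Nat.card H = 1).card ≤ Nat.card H :=
        IsCyclic.card_pow_eq_one_le Nat.card_pos
      have h3 : {a : G | a ^ Nat.card H = 1}.ncard = (Finset.univ.filter fun a : G => a ^ Nat.card H = 1).card := by
        rw [← Set.ncard_coe_finset]
        congr 1
        ext a
        simp only [_root_.Nat.card_eq_fintype_card, _root_.Set.mem_ofPred_eq, _root_.Finset.coe_filter, _root_.Finset.mem_univ, _root_.true_and]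
      rw [h3]
      exact h2.trans (le_of_eq rfl)
  apply SetLike.coe_injective
  rw [key H, key K, h]

/-- **The Sylow `s`-subgroups of `E₈(q)` are not cyclic.** -/
theorem exists_sylow {F : Type u} [Field F] [Finite F] {s : ℕ} (hs : s.Prime) (hs2 : s ≠ 2)
    (hsq : s ∣ Nat.card F ∨ s ∣ Nat.card F - 1 ∨ s ∣ Nat.card F + 1) :
    ∃ P : Sylow s ↥(chevE8.group F), ¬ IsCyclic P := by
  have hf : Fact s.Prime := ⟨hs⟩
  obtain ⟨g, hg⟩ := exists_prime_orderOf_dvd_card' (G := Matrix.SpecialLinearGroup (Fin 2) F) s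
    (by rw [card_SL2]; exact dvd_of Nat.card_pos hsq)
  have hf0 := kerPM_ph (F := F) inl l0
  have hg0 := kerPM_ph (F := F) inl l1
  have hodd : Odd (orderOf g) := by rw [hg]; exact hs.odd_of_ne_two hs2
  have oA : orderOf (ph (F := F) inl l0 g) = s := by rw [hf0.orderOf_eq _ hodd, hg]
  have oB : orderOf (ph (F := F) inl l1 g) = s := by rw [hg0.orderOf_eq _ hodd, hg]
  have hc : ∀ x y, Commute (ph (F := F) inl l0 x) (ph (F := F) inl l1 y) := fun x y => ph_commute inl l0 l1 orth x y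
  have hab : ph (F := F) inl l0 g ∉ zpowers (ph (F := F) inl l1 g) := by
    rintro ⟨i, hi⟩
    have hi : (ph (F := F) inl l1 g) ^ i = ph (F := F) inl l0 g := hi
    have h2 : ∀ x, Commute (ph (F := F) inl l0 g) (ph (F := F) inl l0 x) := by
      intro x
      rw [← hi]
      exact (hc x g).symm.zpow_left i
    rcases hf0.eq_of_commute h2 with h4 | h4
    · rw [h4, orderOf_one] at hg
      exact hs.one_lt.ne' hg.symm
    · have h5 : g ^ 2 = 1 := by rw [h4]; simp only [_root_.even_two, _root_.Even.neg_pow, _root_.one_pow]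
      have h6 := orderOf_dvd_of_pow_eq_one h5
      rw [hg] at h6
      exact hs2 ((Nat.prime_dvd_prime_iff_eq hs Nat.prime_two).1 h6)
  -- the subgroup generated by the two elements
  set a := ph (F := F) inl l0 g
  set b := ph (F := F) inl l1 g
  have hcomm : ∀ (x : zpowers a) (y : zpowers b), Commute ((zpowers a).subtype x) ((zpowers b).subtype y) := by
    rintro ⟨_, i, rfl⟩ ⟨_, j, rfl⟩
    exact ((hc g g).zpow_zpow i j)
  let f : zpowers a × zpowers b →* ↥(chevE8.group F) := MonoidHom.noncommCoprod (zpowers a).subtype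
    (zpowers b).subtype hcomm
  have hP : IsPGroup s f.range := by
    have h1 : IsPGroup s (zpowers a × zpowers b) := by
      apply IsPGroup.of_card (n := 2)
      rw [Nat.card_prod, Nat.card_zpowers, Nat.card_zpowers, oA, oB, pow_two]
    exact h1.of_surjective f.rangeRestrict f.rangeRestrict_surjective
  obtain ⟨P, hRP⟩ := hP.exists_le_sylow
  refine ⟨P, fun hcy => hab ?_⟩
  have haP : a ∈ P := hRP ⟨(⟨a, mem_zpowers a⟩, 1), by simp only [f, _root_.MonoidHom.noncommCoprod_apply, _root_.Subgroup.subtype_apply, _root_.OneMemClass.coe_one, _root_.mul_one]⟩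
  have hbP : b ∈ P := hRP ⟨(1, ⟨b, mem_zpowers b⟩), by simp only [f, _root_.MonoidHom.noncommCoprod_apply, _root_.Subgroup.subtype_apply, _root_.OneMemClass.coe_one, _root_.one_mul]⟩
  have e1 : orderOf (⟨a, haP⟩ : P) = s := (Subgroup.orderOf_mk a haP).trans oA
  have e2 : orderOf (⟨b, hbP⟩ : P) = s := (Subgroup.orderOf_mk b hbP).trans oB
  have h1 : (⟨a, haP⟩ : P) ∈ zpowers (⟨b, hbP⟩ : P) := by
    have h2 : Nat.card ↥(zpowers (⟨a, haP⟩ : P)) = Nat.card ↥(zpowers (⟨b, hbP⟩ : P)) := by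
      rw [Nat.card_zpowers, Nat.card_zpowers, e1, e2]
    have h3 := eq_of_card h2
    rw [← h3]
    exact mem_zpowers _
  obtain ⟨i, hi⟩ := h1
  exact ⟨i, congrArg Subtype.val hi⟩

/-- **A noncyclic `s`-subgroup of `G/N` and a prime `t ∣ |N|`.** -/
theorem rel_of_noncyclic {G : Type*} [Group G] [Finite G] {N : Subgroup G} [N.Normal] {t s : ℕ} (ht : t.Prime)
    (hs : s.Prime) (hs2 : s ≠ 2) (hst : s ≠ t) (htN : t ∣ Nat.card ↥N) (E : Subgroup (G ⧸ N)) (hE : IsPGroup s E)
    (hE' : ¬ IsCyclic E) : ∃ x : G, orderOf x = s * t := by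
  have hsf : Fact s.Prime := ⟨hs⟩
  obtain ⟨P, Q, hP, hP1, hQ, hQP, S, hS⟩ := H813.NonCyc.exists_cover (G := G) (N := N) ht hs htN E
  refine H813.NonCyc.core ht hs hs2 hst hP hP1 hQ (fun hc => hE' ?_) hQP
  have hSc := hS hc
  have hST : (S : Subgroup E) = ⊤ := (S.3 (Q := ⊤) (hE.to_subgroup ⊤) le_top).symm
  have h1 : IsCyclic (S : Subgroup E) := hSc
  rw [hST] at h1
  exact isCyclic_of_surjective (Subgroup.topEquiv (G := E)).toMonoidHom (Subgroup.topEquiv (G := E)).surjective

/-- **The primes of the kernel.** -/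
theorem ker_rel {G : Type*} [Group G] [Finite G] {K : Subgroup G} [K.Normal] {S : Subgroup (G ⧸ K)}
    {F : Type v} [Field F] [Finite F] (e : ↥S ≃* ↥(chevE8.group F)) {s t : ℕ} (hs : s.Prime) (ht : t.Prime)
    (hs2 : s ≠ 2) (hst : s ≠ t) (hsq : s ∣ Nat.card F ∨ s ∣ Nat.card F - 1 ∨ s ∣ Nat.card F + 1)
    (htK : t ∣ Nat.card ↥K) : H493.PG.Rel G s t := by
  have hf : Fact s.Prime := ⟨hs⟩
  obtain ⟨P, hP⟩ := exists_sylow (F := F) hs hs2 hsq
  let j : ↥(chevE8.group F) →* G ⧸ K := S.subtype.comp e.symm.toMonoidHom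
  have hj : Function.Injective j := S.subtype_injective.comp e.symm.injective
  have hiso : (P : Subgroup ↥(chevE8.group F)) ≃* ((P : Subgroup ↥(chevE8.group F)).map j) :=
    Subgroup.equivMapOfInjective _ _ hj
  obtain ⟨x, hx⟩ := rel_of_noncyclic ht hs hs2 hst htK ((P : Subgroup ↥(chevE8.group F)).map j) (P.2.map j)
    (fun hc => hP (isCyclic_of_surjective hiso.symm.toMonoidHom hiso.symm.surjective))
  exact ⟨hs, ht, hst, x, hx⟩

end Cfsg.Agent.H413.E8.NonCyc
end

-- part: H413/E8/Graph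
section
/-!
# Groups with the prime graph of `E₈(q)`: comparison of the two prime graphs (helper413, S3636)

* `OutRel` : the statement of `H158.E8.Out.out_rel`;
* `ctx` : the combinatorial context;
* `hl`, `index_one`, `five` : the consequences.
-/

set_option autoImplicit false
set_option linter.unusedSectionVars false

namespace Cfsg.Agent.H413.E8.Graph

open Cfsg Cfsg.Lie Cfsg.Agent.H378.ExcAdj Cfsg.Agent.H407.E8 Cfsg.Agent.H413.E8.Comb

universe u v w

/-- the statement of `H158.E8.Out.out_rel` -/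
def OutRel {X : Type u} [Group X] (S : Subgroup X) (F' : Type v) [Field F'] : Prop :=
  ∀ t : ℕ, t.Prime → t ∣ S.index → ∃ (F₀ : Type v) (_ : Field F₀) (_ : Fintype F₀), Nat.card F' = Nat.card F₀ ^ t ∧
    ∀ s : ℕ, s.Prime → s ≠ t → s ∣ Nat.card ↥(chevE8.group F₀) → ∃ x : X, orderOf x = t * s

section

variable {F : Type v} [Field F] [Finite F] {G : Type u} [Group G] [Finite G] {K : Subgroup G} [K.Normal]
  {S : Subgroup (G ⧸ K)} [S.Normal] {F' : Type w} [Field F'] [Finite F']

/-- **The combinatorial context.** -/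
theorem ctx (h : Same ↥(chevE8.group F) G) (e : ↥S ≃* ↥(chevE8.group F')) (hO : OutRel S F') :
    Ctx (Nat.card F) (Nat.card F') (H493.PG.Rel ↥(chevE8.group F)) (H493.PG.Rel ↥(chevE8.group F'))
      (fun r => r ∣ Nat.card ↥(chevE8.group F)) (fun r => r ∣ Nat.card ↥(chevE8.group F'))
      (fun r => r ∣ Nat.card ↥K) (fun r => r ∣ S.index) := by
  have hG : ∀ {r s : ℕ}, H493.PG.Rel G r s → H493.PG.Rel ↥(chevE8.group F) r s := fun ⟨hr, hs, hne, hx⟩ =>
    ⟨hr, hs, hne, (h.2 _ _ hr hs hne).2 hx⟩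
  refine ⟨facts F, facts F', ?_, ?_, ?_, ?_⟩
  · intro r s hrs
    have h1 : H493.PG.Rel (G ⧸ K) r s := H493.PG.Rel.of_injective (S.subtype.comp e.symm.toMonoidHom)
      (S.subtype_injective.comp e.symm.injective) hrs
    exact hG (H493.PG.Rel.of_surjective (QuotientGroup.mk' K) (QuotientGroup.mk'_surjective K) h1)
  · intro r hr hd
    have h1 := (h.1 r hr).1 hd
    rw [H420.QR.card_eq_mul (K := K) (S := S), hr.dvd_mul, hr.dvd_mul, Nat.card_congr e.toEquiv] at h1
    (clear * - h1; tauto)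
  · intro r s hr hK hs hne
    have hq : 1 ≤ Nat.card F' := Nat.card_pos
    have hs' : s.Prime ∧ s ≠ 2 ∧ (s ∣ Nat.card F' ∨ s ∣ Nat.card F' - 1 ∨ s ∣ Nat.card F' + 1) := by
      rcases hs with rfl | ⟨rfl, h5⟩
      · exact ⟨Nat.prime_three, by norm_num, dvd_three _⟩
      · exact ⟨Nat.prime_five, by norm_num, dvd_five hq h5⟩
    exact (hG (NonCyc.ker_rel e hs'.1 hr hs'.2.1 hne.symm hs'.2.2 hK)).symm
  · intro r hr hI
    obtain ⟨F₀, _, _, hc, h0⟩ := hO r hr hI
    refine ⟨Nat.card F₀, _, _, hc, facts F₀, fun s hs hne hd => hG ?_⟩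
    obtain ⟨x, hx⟩ := h0 s hs hne hd
    exact H493.PG.Rel.of_surjective (QuotientGroup.mk' K) (QuotientGroup.mk'_surjective K) ⟨hr, hs, hne.symm, x, hx⟩

variable (C : Ctx (Nat.card F) (Nat.card F') (H493.PG.Rel ↥(chevE8.group F)) (H493.PG.Rel ↥(chevE8.group F'))
      (fun r => r ∣ Nat.card ↥(chevE8.group F)) (fun r => r ∣ Nat.card ↥(chevE8.group F'))
      (fun r => r ∣ Nat.card ↥K) (fun r => r ∣ S.index))

include C

/-- the hypothesis `hl` of `Fr.bot` -/
theorem hl (h : Same ↥(chevE8.group F) G) : ∀ l : ℕ, l.Prime → l ∣ Nat.card ↥K →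
    ∃ r : ℕ, r.Prime ∧ od (Nat.card F') r = 24 ∧ l ≠ r ∧ ¬ ∃ g : G, orderOf g = l * r := by
  intro l hl hK
  obtain ⟨r, hr, h24, hne, hR⟩ := C.K24 hl hK
  exact ⟨r, hr, h24, hne.symm, fun hg => hR ⟨hl, hr, hne.symm, (h.2 l r hl hr hne.symm).2 hg⟩⟩

theorem index_one : S.index = 1 := by
  by_contra hne
  obtain ⟨t, ht, hd⟩ := Nat.exists_prime_and_dvd hne
  exact C.not_I ht hd

theorem eq_top : S = ⊤ := Subgroup.index_eq_one.1 (index_one C)

theorem mod_five (hq : Nat.card F % 5 = 2 ∨ Nat.card F % 5 = 3) : Nat.card F' % 5 = 2 ∨ Nat.card F' % 5 = 3 :=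
  (od_five_iff Nat.card_pos).1 (C.five ((od_five_iff Nat.card_pos).2 hq))

end

/-- `G ≅ E₈(F')` -/
theorem equiv_of {G : Type u} [Group G] {K : Subgroup G} [K.Normal] {S : Subgroup (G ⧸ K)} {F' : Type w} [Field F']
    (e : ↥S ≃* ↥(chevE8.group F')) (hK : K = ⊥) (hS : S = ⊤) : Nonempty (G ≃* ↥(chevE8.group F')) := by
  subst hK hS
  exact ⟨((QuotientGroup.quotientBot (G := G)).symm.trans Subgroup.topEquiv.symm).trans e⟩

end Cfsg.Agent.H413.E8.Graph
end

-- part: H992/E8X/UC
section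
/-!
# `E₈(u)` in cross characteristic: every element of the torus of type 24 has fixed vectors (helper992)
-/

set_option autoImplicit false

namespace Cfsg.Agent.H992.E8X

open Cfsg Cfsg.Lie Cfsg.Agent.H425.KFix Cfsg.Agent.H129.CycT Cfsg.Agent.H129.CycCard Cfsg.Agent.H378.ExcAdj

universe u v w

/-- one fixed vector decides -/
theorem fix_of_cyc {G : Type v} [Group G] [Finite G] {r : ℕ} (hr : r.Prime) (h : CycAt G r) {y : G}
    (hy : orderOf y = r) {x : G} (hx : orderOf x = r) {p : ℕ} {W : Type u} [AddCommGroup W] [Module (ZMod p) W]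
    (ρ : G →* (W ≃ₗ[ZMod p] W)) {w : W} (hw : w ≠ 0) (hw' : ρ y w = w) : ∃ w : W, w ≠ 0 ∧ ρ x w = w := by
  obtain ⟨T, hc, hrT, hcent⟩ := h
  obtain ⟨g, hg, -⟩ := centralizer_conj hc hr hrT hcent hx
  obtain ⟨h, hh, -⟩ := centralizer_conj hc hr hrT hcent hy
  have hxo : orderOf (g * x * g⁻¹) = r := by
    rw [← hx]
    exact orderOf_injective (MulAut.conj g).toMonoidHom (MulAut.conj g).injective x
  have hyo : orderOf (h * y * h⁻¹) = r := by
    rw [← hy]
    exact orderOf_injective (MulAut.conj h).toMonoidHom (MulAut.conj h).injective y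
  have h1 : (⟨g * x * g⁻¹, hg⟩ : ↥T) ∈ Subgroup.zpowers (⟨h * y * h⁻¹, hh⟩ : ↥T) := by
    refine Cfsg.Agent.H129.FE.mem_zpowers_of_cyclic hr.pos ?_ (by rw [Subgroup.orderOf_mk, hyo])
    apply Subtype.ext
    show (g * x * g⁻¹) ^ r = 1
    rw [← hxo, pow_orderOf_eq_one]
  rw [← mem_powers_iff_mem_zpowers] at h1
  obtain ⟨n, hn⟩ := h1
  have h2 : (h * y * h⁻¹) ^ n = g * x * g⁻¹ := congrArg Subtype.val hn
  have h3 : x = g⁻¹ * (h * y ^ n * h⁻¹) * g := by
    rw [conj_pow] at h2
    rw [h2]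
    group
  have hyn : ρ (y ^ n) w = w := by
    clear hn h2 h3
    induction n with
    | zero => rw [pow_zero, map_one]; rfl
    | succ n ih =>
      rw [pow_succ, map_mul]
      show ρ (y ^ n) (ρ y w) = w
      rw [hw', ih]
  refine ⟨ρ (g⁻¹ * h) w, fun h0 => hw ((ρ (g⁻¹ * h)).map_eq_zero_iff.1 h0), ?_⟩
  have h4 : x * (g⁻¹ * h) = (g⁻¹ * h) * y ^ n := by
    rw [h3]
    group
  have hmul : ∀ (a b : G) (z : W), ρ (a * b) z = ρ a (ρ b z) := fun a b z => by
    rw [map_mul]
    rfl
  rw [← hmul, h4, hmul, hyn]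

/-- **cross characteristic**: elements of prime order dividing `u ^ 8 - u ^ 4 + 1` have fixed vectors -/
theorem fixAll_cross {F : Type v} [Field F] [Finite F] {l : ℕ} (hl : l.Prime) (hlF : ¬ l ∣ Nat.card F)
    {x : ↥(chevE8.group F)} (hs : (orderOf x).Prime) (hd : orderOf x ∣ Nat.card F ^ 8 - Nat.card F ^ 4 + 1) :
    FixAll.{u} l x := by
  intro W _ _ _ _ ρ
  have : Fact l.Prime := ⟨hl⟩
  have : Fintype F := Fintype.ofFinite F
  have hsimple : IsSimpleGroup ↥(chevE8.group F) := (S1054.result chevE8 (by simp)).1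
  by_cases hi : Function.Injective ρ
  · let τ : ↥(chevE8.group F) →* Module.End (ZMod l) W :=
      { toFun := fun g => (ρ g).toLinearMap
        map_one' := by rw [map_one]; rfl
        map_mul' := fun a b => by rw [map_mul]; rfl }
    have hτ : Function.Injective τ := by
      intro a b hab
      apply hi
      exact LinearEquiv.toLinearMap_injective hab
    obtain ⟨y, hy, v, hv, hv'⟩ := exists_fix τ hτ
      (by
        intro h0
        exact hlF ((ZMod.natCast_eq_zero_iff _ _).1 h0)) hs hd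
    have hcyc : CycAt ↥(chevE8.group F) (orderOf x) := by
      have hc : ((Nat.card F ^ 8 - Nat.card F ^ 4 + 1 : ℕ) : ℤ) = 1 - (Nat.card F : ℤ) ^ 4 + (Nat.card F : ℤ) ^ 8 := by
        have h2 : 1 ≤ Nat.card F := Nat.card_pos
        rw [Nat.cast_add, Nat.cast_sub (Nat.pow_le_pow_right h2 (by norm_num))]
        push_cast
        ring
      refine (card_E8_24 (q := Nat.card F) Nat.card_eq_fintype_card.symm hc hs ?_).cycAt
      rw [← hc]
      exact_mod_cast hd
    exact fix_of_cyc hs hcyc hy rfl ρ hv hv'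
  · -- trivial action
    have hk : ρ.ker = ⊤ := by
      rcases hsimple.eq_bot_or_eq_top_of_normal ρ.ker inferInstance with h | h
      · exact absurd ((MonoidHom.ker_eq_bot_iff ρ).1 h) hi
      · exact h
    obtain ⟨w, hw⟩ := exists_ne (0 : W)
    refine ⟨w, hw, ?_⟩
    have : ρ x = 1 := by
      have : x ∈ ρ.ker := by rw [hk]; trivial
      exact this
    rw [this]
    rfl

/-- **cross characteristic** in the form used for the radical -/
theorem uc_cross {F' : Type v} [Field F'] [Finite F'] {l : ℕ} (hl : l.Prime) (hlF : ¬ l ∣ Nat.card F') :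
    H407.E8.UC.{u} l F' := by
  intro x hx ho _
  refine fixAll_cross hl hlF hx ?_
  have h1 : orderOf x ∣ H416.Arith.c 24 (Nat.card F') := H407.E8.dvd_mm (i := 1) hx (q := Nat.card F') ho
  have h2 : 2 ≤ Nat.card F' := Finite.one_lt_card
  have h3 : H416.Arith.c 24 (Nat.card F') = Nat.card F' ^ 8 - Nat.card F' ^ 4 + 1 := by
    have h4 := H416.Arith.cast_c 24 h2
    rw [H416.Arith.eval_24] at h4
    have h5 : ((Nat.card F' ^ 8 - Nat.card F' ^ 4 + 1 : ℕ) : ℤ) = (Nat.card F' : ℤ) ^ 8 - (Nat.card F' : ℤ) ^ 4 + 1 := by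
      rw [Nat.cast_add, Nat.cast_sub (Nat.pow_le_pow_right (by omega) (by norm_num))]
      push_cast
      ring
    exact_mod_cast h4.trans h5.symm
  rw [← h3]
  exact h1

end Cfsg.Agent.H992.E8X
end

-- part: H992/E8X/UCAll
section
/-!
# `E₈(u)`: elements of the torus of type 24 have fixed vectors in every characteristic (helper992)
-/

set_option autoImplicit false

namespace Cfsg.Agent.H992.E8X

open Cfsg Cfsg.Lie Cfsg.Agent.H425.KFix

universe u v

/-- **every characteristic** -/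
theorem uc (F' : Type v) [Field F'] [Finite F'] {l : ℕ} (hl : l.Prime) : H407.E8.UC.{u} l F' := by
  by_cases hlF : l ∣ Nat.card F'
  · intro x hx ho hlx
    have : Fintype F' := Fintype.ofFinite F'
    have : Fact l.Prime := ⟨hl⟩
    have hch : CharP F' l := by
      obtain ⟨p, hp⟩ := CharP.exists F'
      obtain ⟨n, hpp, hn⟩ := FiniteField.card F' p
      rw [Nat.card_eq_fintype_card, hn] at hlF
      have := (Nat.prime_dvd_prime_iff_eq hl hpp).1 (hl.dvd_of_dvd_pow hlF)
      rw [this]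
      exact hp
    exact H564.U.fixAll_E8 (p := l) x (((Nat.coprime_primes hx hl).2 hlx.symm))
  · exact uc_cross hl hlF

end Cfsg.Agent.H992.E8X
end

-- part: H992/E8X/Out
section
/-!
# Extensions of Chevalley groups by field automorphisms (helper992)

`X` a finite group, `S` a normal subgroup with trivial centralizer, `S ≅ D.group F'` with only field automorphisms modulo
inner automorphisms: for a prime `t` of the index of `S` there is a field `F₀` with `|F'| = |F₀| ^ t` and elements of order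
`t s` for all primes `s ≠ t` of `|D.group F₀|`.
-/

set_option autoImplicit false

namespace Cfsg.Agent.H992.E8X.OutStep

open Cfsg Cfsg.Lie Cfsg.Agent.ChevalleyStructure Cfsg.Agent.ChevalleyStructure.Elts Cfsg.Agent.ChevalleyStructure.NConj Cfsg.Agent.ChevalleyStructure.BNChev Cfsg.Agent.S1042 Cfsg.Agent.H967.CopMat Cfsg.Agent.H967.FaBase
  Cfsg.Agent.H967.FaChev Cfsg.Agent.H967.CopChev

universe u v

/-- every automorphism is inner times a field automorphism -/
theorem exists_field {D : ChevalleyDatum} (hD : InList D) {F : Type v} [Field F] [Finite F]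
    (hout : Nat.card (Out ↥(D.group F)) = Nat.card (F ≃+* F)) (a : MulAut ↥(D.group F)) :
    ∃ (g : ↥(D.group F)) (σ : F ≃+* F), a = MulAut.conj g * fieldAut (stab_group D F) σ := by
  have hfin : Finite (F ≃+* F) := Finite.of_injective (fun f : F ≃+* F => (f : F → F)) DFunLike.coe_injective
  have hpos : 0 < Nat.card (F ≃+* F) := Nat.card_pos
  have hfin2 : Finite (Out ↥(D.group F)) := Nat.finite_of_card_ne_zero (by rw [hout]; exact hpos.ne')
  let π : MulAut ↥(D.group F) →* Out ↥(D.group F) := QuotientGroup.mk' _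
  let f : (F ≃+* F) →* Out ↥(D.group F) := π.comp (fieldAut (stab_group D F))
  have hinj : Function.Injective f := by
    rw [injective_iff_map_eq_one]
    intro σ hσ
    by_contra h
    exact not_inner hD σ h ((QuotientGroup.eq_one_iff _).1 hσ)
  have hsurj : Function.Surjective f :=
    ((Nat.bijective_iff_injective_and_card f).2 ⟨hinj, hout.symm⟩).2
  obtain ⟨σ, hσ⟩ := hsurj (π a)
  have h1 : a * (fieldAut (stab_group D F) σ)⁻¹ ∈ Inn ↥(D.group F) := by
    rw [← QuotientGroup.eq_one_iff]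
    show π (a * (fieldAut (stab_group D F) σ)⁻¹) = 1
    rw [map_mul, map_inv, ← hσ]
    exact mul_inv_cancel _
  obtain ⟨g, hg⟩ := h1
  exact ⟨g, σ, by rw [hg, inv_mul_cancel_right]⟩

/-- **the outer step** -/
theorem out_rel_gen {X : Type u} [Group X] [Finite X] (S : Subgroup X) [S.Normal]
    (hC : Subgroup.centralizer (S : Set X) = ⊥) {D : ChevalleyDatum} (hD : InList D) {F : Type v} [Field F] [Finite F]
    (hout : Nat.card (Out ↥(D.group F)) = Nat.card (F ≃+* F)) (e : ↥S ≃* ↥(D.group F)) {t : ℕ} (ht : t.Prime)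
    (htS : t ∣ S.index) :
    ∃ (F₀ : Type v) (_ : Field F₀) (_ : Finite F₀), Nat.card F = Nat.card F₀ ^ t ∧
      ∀ s : ℕ, s.Prime → s ≠ t → s ∣ Nat.card ↥(D.group F₀) → ∃ x : X, orderOf x = t * s := by
  have : Fact t.Prime := ⟨ht⟩
  have htS' : t ∣ Nat.card (X ⧸ S) := htS
  obtain ⟨z, hz⟩ := exists_prime_orderOf_dvd_card' t htS'
  obtain ⟨h0, rfl⟩ := QuotientGroup.mk'_surjective S z
  let θ : X →* MulAut ↥(D.group F) := (MulAut.congr e).toMonoidHom.comp (MulAut.conjNormal : X →* MulAut ↥S)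
  have hθ : ∀ (x : X) (y : ↥S), θ x (e y) = e (MulAut.conjNormal x y) := fun x y => by
    show e (MulAut.conjNormal x (e.symm (e y))) = _
    rw [e.symm_apply_apply]
  have hθS : ∀ y : ↥S, θ y = MulAut.conj (e y) := fun y => by
    ext1 w
    obtain ⟨w, rfl⟩ := e.surjective w
    rw [hθ, MulAut.conj_apply, ← map_inv, ← map_mul, ← map_mul]
    congr 1
  have hθ1 : ∀ x : X, θ x = 1 → x = 1 := fun x hx => by
    have h1 : x ∈ Subgroup.centralizer (S : Set X) := by
      rw [Subgroup.mem_centralizer_iff]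
      intro y hy
      have h2 := hθ x ⟨y, hy⟩
      rw [hx] at h2
      have h3 := e.injective h2
      have h4 : y = x * y * x⁻¹ := congrArg Subtype.val h3
      calc y * x = x * y * x⁻¹ * x := by rw [← h4]
        _ = x * y := inv_mul_cancel_right _ _
    rw [hC] at h1
    exact Subgroup.mem_bot.1 h1
  obtain ⟨g, σ, hgσ⟩ := exists_field hD hout (θ h0)
  -- the element acting as a field automorphism
  let h : X := ((e.symm g : ↥S) : X)⁻¹ * h0
  have hh : θ h = fieldAut (stab_group D F) σ := by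
    have h1 : θ ((e.symm g : ↥S) : X) = MulAut.conj g := by rw [hθS, e.apply_symm_apply]
    show θ (((e.symm g : ↥S) : X)⁻¹ * h0) = _
    rw [map_mul, map_inv, h1, hgσ, inv_mul_cancel_left]
  have hmk : (QuotientGroup.mk' S) h = QuotientGroup.mk' S h0 := by
    show (QuotientGroup.mk' S) (((e.symm g : ↥S) : X)⁻¹ * h0) = _
    rw [map_mul]
    have : (QuotientGroup.mk' S) (((e.symm g : ↥S) : X)⁻¹) = 1 := by
      rw [QuotientGroup.mk'_apply, QuotientGroup.eq_one_iff]
      exact inv_mem (e.symm g).2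
    rw [this, one_mul]
  have hhS : h ∉ S := fun hS => by
    have : (QuotientGroup.mk' S) h = 1 := (QuotientGroup.eq_one_iff h).2 hS
    rw [hmk] at this
    rw [this, orderOf_one] at hz
    exact ht.one_lt.ne hz
  have hht : h ^ t ∈ S := by
    have : (QuotientGroup.mk' S) (h ^ t) = 1 := by
      rw [map_pow, hmk, ← hz]
      exact pow_orderOf_eq_one _
    exact (QuotientGroup.eq_one_iff _).1 this
  have hσt : σ ^ t = 1 := by
    by_contra hne
    refine not_inner hD (σ ^ t) hne ?_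
    rw [map_pow, ← hh, ← map_pow]
    exact ⟨e ⟨h ^ t, hht⟩, (hθS ⟨h ^ t, hht⟩).symm⟩
  have hσ1 : σ ≠ 1 := by
    rintro rfl
    apply hhS
    rw [map_one] at hh
    rw [hθ1 h hh]
    exact one_mem S
  have hoσ : orderOf σ = t := orderOf_eq_prime hσt hσ1
  have hhne : h ≠ 1 := fun h1 => hhS (h1 ▸ one_mem S)
  have hoh : orderOf h = t := by
    refine orderOf_eq_prime (hθ1 _ ?_) hhne
    rw [map_pow, hh, ← map_pow, hσt, map_one]
  refine ⟨↥(Fx σ), inferInstance, inferInstance, by rw [card_Fx σ, hoσ], fun s hs hst hsd => ?_⟩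
  have : Fintype F := Fintype.ofFinite F
  obtain ⟨y, hy, hy'⟩ := fixed_of_dvd σ hs hsd
  -- commuting elements of orders `t` and `s`
  have hcomm : Commute h ((e.symm y : ↥S) : X) := by
    have h1 := hθ h (e.symm y)
    rw [e.apply_symm_apply, hh, hy'] at h1
    have h2 : e (e.symm y) = e (MulAut.conjNormal h (e.symm y)) := by rw [e.apply_symm_apply]; exact h1
    have h3 := congrArg Subtype.val (e.injective h2)
    have h4 : ((e.symm y : ↥S) : X) = h * ((e.symm y : ↥S) : X) * h⁻¹ := h3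
    show h * ((e.symm y : ↥S) : X) = ((e.symm y : ↥S) : X) * h
    calc h * ((e.symm y : ↥S) : X) = h * ((e.symm y : ↥S) : X) * h⁻¹ * h := (inv_mul_cancel_right _ _).symm
      _ = _ := by rw [← h4]
  have hoy : orderOf ((e.symm y : ↥S) : X) = s := by
    rw [Subgroup.orderOf_coe]
    rw [← hy]
    exact orderOf_injective e.symm.toMonoidHom e.symm.injective y
  refine ⟨h * ((e.symm y : ↥S) : X), ?_⟩
  rw [hcomm.orderOf_mul_eq_mul_orderOf_of_coprime, hoh, hoy]
  rw [hoh, hoy]
  exact (Nat.coprime_primes ht hs).2 hst.symm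

/-- the outer step for `E₈` -/
theorem out_rel {X : Type u} [Group X] [Finite X] (S : Subgroup X) [S.Normal]
    (hC : Subgroup.centralizer (S : Set X) = ⊥) {F' : Type v} [Field F'] [Fintype F']
    (e : ↥S ≃* ↥(chevE8.group F')) {t : ℕ} (ht : t.Prime) (htS : t ∣ S.index) :
    ∃ (F₀ : Type v) (_ : Field F₀) (_ : Fintype F₀), Fintype.card F' = Fintype.card F₀ ^ t ∧
      ∀ s : ℕ, s.Prime → s ≠ t → s ∣ Nat.card ↥(chevE8.group F₀) → ∃ x : X, orderOf x = t * s := by
  obtain ⟨p, hp⟩ := CharP.exists F'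
  obtain ⟨n, hpp, hn⟩ := FiniteField.card F' p
  have : Fact p.Prime := ⟨hpp⟩
  have hout : Nat.card (Out ↥(chevE8.group F')) = Nat.card (F' ≃+* F') := by
    rw [S2125.result p n hn, Cfsg.Agent.Lib.FieldAutCard.card_ringAut n.pos hn]
  obtain ⟨F₀, _, _, h1, h2⟩ := out_rel_gen S hC (D := chevE8) (by simp) hout e ht htS
  have := Fintype.ofFinite F₀
  refine ⟨F₀, inferInstance, inferInstance, ?_, h2⟩
  rw [← Nat.card_eq_fintype_card, ← Nat.card_eq_fintype_card, h1]

end Cfsg.Agent.H992.E8X.OutStep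
end
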